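import Cfsg.Agent.S0106

/-! Computations in `SL₂(3)`. -/

set_option autoImplicit false

namespace Cfsg.Agent.LU

open Cfsg.Agent.S0106 (SL23 mI mJ mW)

/-- conjugation by `diag(1, -1)` -/
def ou0 (s : SL23) : SL23 := ⟨!![s.1 0 0, -s.1 0 1; -s.1 1 0, s.1 1 1], by
  have := s.2
  rw [Matrix.det_fin_two] at this
  simpa [Matrix.det_fin_two] using this⟩

/-- conjugation by `diag(1, -1)` -/
def ou : SL23 →* SL23 := MonoidHom.mk' ou0 (by decide +kernel)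

theorem ou_ou : ∀ s, ou (ou s) = s := by decide +kernel

set_option synthInstance.maxSize 1024 in
theorem aut_key : ∀ i : SL23, i * i = -1 → ∀ w : SL23, w ≠ 1 → w * w * w = 1 → i * w * (i * w) * (i * w) = -1 →
    ∃ g, (i * g = g * mI ∧ w * g = g * mW) ∨ (i * g = g * ou mI ∧ w * g = g * ou mW) := by
  decide +kernel

theorem s_inv : ∀ x : SL23, x * x = 1 → x = 1 ∨ x = -1 := by decide +kernel

theorem s_neg : (-1 : SL23) ≠ 1 ∧ (-1 : SL23) * -1 = 1 ∧ mI * mI = -1 ∧ mJ * mJ = -1 ∧ mW ≠ 1 ∧ mW * mW * mW = 1 ∧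
    mI * mW * (mI * mW) * (mI * mW) = -1 ∧ mJ * mW = mW * mI ∧ mI * mJ ≠ mJ * mI ∧ mI ^ 4 = 1 ∧ mJ ^ 4 = 1 ∧
    (mW * mW) ^ 4 ≠ 1 ∧ mJ * mI = -1 * (mI * mJ) := by
  decide +kernel

theorem s_cen : ∀ x : SL23, -1 * x = x * -1 := by decide +kernel

theorem s_12 : ∀ x : SL23, x ^ (4 * 3) = 1 := by decide +kernel

theorem s_q : ∀ g : SL23, mI * g = g * mI → mJ * g = g * mJ → g = 1 ∨ g = -1 := by decide +kernel

theorem s_out : ∀ g : SL23, mI * g = g * ou mI → mJ * g ≠ g * ou mJ := by decide +kernel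

theorem s_out' : ∀ g x : SL23, x * g = g * ou mW → (x * (mW * mW)) ^ 4 ≠ 1 := by decide +kernel

theorem s_mul4 : ∀ x : SL23, x ^ 4 = 1 → ∀ y : SL23, y ^ 4 = 1 → (x * y) ^ 4 = 1 := by decide +kernel

theorem s_comm : ∀ x y z : SL23, x * y = z * (y * x) → z ^ 4 = 1 := by
  have : ∀ x y : SL23, (x * y * (y * x) ^ 11) ^ 4 = 1 := by decide +kernel
  intro x y z e
  have k := this x y
  rwa [e, mul_assoc, ← pow_succ', s_12, mul_one] at k

theorem s_nc : ∀ x : SL23, x ^ 4 = 1 → x = 1 ∨ x = -1 ∨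
    mW * x * (mW * mW) * (x * x * x) * (mW * (mW * x * (mW * mW) * (x * x * x)) * (mW * mW)) ≠
      mW * (mW * x * (mW * mW) * (x * x * x)) * (mW * mW) * (mW * x * (mW * mW) * (x * x * x)) := by
  decide +kernel

end Cfsg.Agent.LU
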